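import Groth.Agent.IndAlg.Basic
import Mathlib.CategoryTheory.Presentable.Directed
import Mathlib.CategoryTheory.Limits.Final

/-!
# Necessity half of the limit characterisation of finite presentation
-/

set_option autoImplicit false
universe u

open CategoryTheory CategoryTheory.Limits

namespace Groth.Agent.LimFP

variable {A B : Type u} [CommRing A] [CommRing B] [Algebra A B]

/-- A retract of a finitely presented algebra is finitely presented. -/
theorem finitePresentation_of_retract {E : Type u} [CommRing E] [Algebra A E]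
    [Algebra.FinitePresentation A E] (w : E →ₐ[A] B) (v : B →ₐ[A] E) (h : w.comp v = AlgHom.id A B) :
    Algebra.FinitePresentation A B := by
  classical
  have hw : Function.Surjective w := fun b => ⟨v b, congr($h b)⟩
  refine Algebra.FinitePresentation.of_surjective (f := w) hw ?_
  obtain ⟨n, f, hf, -⟩ := Algebra.FinitePresentation.out (R := A) (A := E)
  refine ⟨Finset.univ.image fun i : Fin n => f (MvPolynomial.X i) - v (w (f (MvPolynomial.X i))), ?_⟩
  set s := Finset.univ.image fun i : Fin n => f (MvPolynomial.X i) - v (w (f (MvPolynomial.X i))) with hs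
  refine le_antisymm (Ideal.span_le.2 ?_) ?_
  · intro x hx
    obtain ⟨i, -, rfl⟩ := Finset.mem_image.1 hx
    change w (f (MvPolynomial.X i) - v (w (f (MvPolynomial.X i)))) = 0
    rw [map_sub, show w (v (w (f (MvPolynomial.X i)))) = w (f (MvPolynomial.X i)) from congr($h _), sub_self]
  · intro x hx
    rw [RingHom.mem_ker] at hx
    have key : (Ideal.Quotient.mkₐ A (Ideal.span (s : Set E))).comp f =
        ((Ideal.Quotient.mkₐ A (Ideal.span (s : Set E))).comp (v.comp w)).comp f :=
      MvPolynomial.algHom_ext fun i => Ideal.Quotient.eq.2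
        (Ideal.subset_span (Finset.mem_image.2 ⟨i, Finset.mem_univ _, rfl⟩))
    obtain ⟨p, rfl⟩ := hf x
    have := congr($key p)
    simp only [AlgHom.comp_apply] at this
    rw [show w (f p) = 0 from hx, map_zero, map_zero] at this
    exact Ideal.Quotient.eq_zero_iff_mem.1 this

/-- If the identity of `B` factors through a stage of every directed presentation by finitely
presented algebras, `B` is finitely presented. -/
theorem finitePresentation_of_factor
    (h : ∀ (J : Type u) [PartialOrder J] [IsDirected J (· ≤ ·)] [Nonempty J]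
      (D : J ⥤ Under (CommRingCat.of A)) (c : Cocone D) (_ : IsColimit c),
      (∀ j, letI := (D.obj j).hom.hom.toAlgebra; Algebra.FinitePresentation A (D.obj j).right) →
      ∀ g : CommRingCat.mkUnder (CommRingCat.of A) B ⟶ c.pt, ∃ j q, q ≫ c.ι.app j = g) :
    Algebra.FinitePresentation A B := by
  have hfac : IndAlg.Fac (A := A) (fun E _ _ => Algebra.FinitePresentation A E) B := by
    intro Z _ _ hZ g
    exact ⟨Z, inferInstance, inferInstance, hZ, AlgHom.id A Z, g, AlgHom.comp_id g⟩
  obtain ⟨J₀, _, _, D₀, c₀, hc₀, hQ, ⟨e⟩⟩ :=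
    IndAlg.isInd_of_fac (fun E _ _ hE => hE) (fun E E' _ _ _ _ e hE => Algebra.FinitePresentation.equiv e) hfac
  obtain ⟨α, _, _, _, F, hF⟩ := IsFiltered.exists_directed J₀
  obtain ⟨j, q, hq⟩ := h α (F ⋙ D₀) (c₀.whisker F)
    ((Functor.Final.isColimitWhiskerEquiv F c₀).symm hc₀) (fun j => hQ (F.obj j)) e.inv
  let alg : Algebra A (D₀.obj (F.obj j)).right := (D₀.obj (F.obj j)).hom.hom.toAlgebra
  haveI : Algebra.FinitePresentation A (D₀.obj (F.obj j)).right := hQ (F.obj j)
  let v : B →ₐ[A] (D₀.obj (F.obj j)).right :=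
    { toRingHom := q.right.hom
      commutes' := fun a => congr($(Under.w q) a) }
  let w : (D₀.obj (F.obj j)).right →ₐ[A] B :=
    { toRingHom := (c₀.ι.app (F.obj j) ≫ e.hom).right.hom
      commutes' := fun a => congr($(Under.w (c₀.ι.app (F.obj j) ≫ e.hom)) a) }
  refine finitePresentation_of_retract w v (AlgHom.ext fun b => ?_)
  have h2 : q ≫ c₀.ι.app (F.obj j) ≫ e.hom = 𝟙 _ := by
    rw [← Category.assoc]
    change (q ≫ (c₀.whisker F).ι.app j) ≫ e.hom = _
    rw [hq, e.inv_hom_id]
    rfl
  exact congr($(h2).right b)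

end Groth.Agent.LimFP
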