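import Groth.Agent.LimFP.Basic
import Mathlib.AlgebraicGeometry.AffineTransitionLimit

/-!
# Factorisation through a stage read off from the limit property of a scheme
-/

set_option autoImplicit false
universe u

open CategoryTheory AlgebraicGeometry

noncomputable section

namespace Groth.Agent.LimFP

variable {A B : CommRingCat.{u}} {J : Type u} [PartialOrder J]

/-- The system of affine schemes over `T` attached to a system of algebras. -/
def overSpec {T : Scheme.{u}} (a : Spec A ⟶ T) (D : J ⥤ Under A) : Jᵒᵖ ⥤ Over T where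
  obj j := Over.mk (Spec.map (D.obj j.unop).hom ≫ a)
  map {i j} m := Over.homMk (Spec.map (D.map m.unop).right) (by
    change Spec.map (D.map m.unop).right ≫ Spec.map (D.obj j.unop).hom ≫ a = Spec.map (D.obj i.unop).hom ≫ a
    rw [← Category.assoc, ← Spec.map_comp, Under.w])
  map_id j := Over.OverMorphism.ext (by simp)
  map_comp m m' := Over.OverMorphism.ext (by simp [Spec.map_comp])

instance isAffine_overSpec {T : Scheme.{u}} (a : Spec A ⟶ T) (D : J ⥤ Under A) (j : Jᵒᵖ) :
    IsAffine ((overSpec a D).obj j).left :=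
  inferInstanceAs (IsAffine (Spec (D.obj j.unop).right))

theorem exists_factor [IsDirected J (· ≤ ·)] [Nonempty J] (φ : A ⟶ B) {X S T : Scheme.{u}} (f : X ⟶ S)
    (ι : T ⟶ S) (a : Spec A ⟶ T) (b : Spec B ⟶ X) [Mono (a ≫ ι)] [IsOpenImmersion b]
    (hsq : Spec.map φ ≫ a ≫ ι = b ≫ f) (D : J ⥤ Under A) (c : Limits.Cocone D) (hc : Limits.IsColimit c)
    (g : Under.mk φ ⟶ c.pt)
    [hp : Limits.PreservesColimit (overSpec a D ⋙ Over.map ι).op (yoneda.obj (Over.mk f))] :
    ∃ (j : J) (q : Under.mk φ ⟶ D.obj j), q ≫ c.ι.app j = g := by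
  let W : Jᵒᵖ ⥤ Scheme.{u} := D.op ⋙ (Under.forget _).op ⋙ Scheme.Spec
  let cW : Limits.Cone W := Scheme.Spec.mapCone ((Under.forget _).mapCocone c).op
  have hcW : Limits.IsLimit cW :=
    Limits.isLimitOfPreserves Scheme.Spec (Limits.isColimitOfPreserves (Under.forget _) hc).op
  let t : Limits.Cone (overSpec a D ⋙ Over.map ι) :=
    { pt := Over.mk (Spec.map c.pt.hom ≫ a ≫ ι)
      π :=
        { app := fun j => Over.homMk (Spec.map (c.ι.app j.unop).right) (by
            change Spec.map (c.ι.app j.unop).right ≫ (Spec.map (D.obj j.unop).hom ≫ a) ≫ ι =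
              Spec.map c.pt.hom ≫ a ≫ ι
            rw [Category.assoc, ← Category.assoc, ← Spec.map_comp]
            erw [Under.w (c.ι.app j.unop)]
            rfl)
          naturality := fun i j m => Over.OverMorphism.ext (by
            change 𝟙 _ ≫ Spec.map (c.ι.app j.unop).right =
              Spec.map (c.ι.app i.unop).right ≫ Spec.map (D.map m.unop).right
            rw [Category.id_comp, ← Spec.map_comp]
            exact congrArg Spec.map congr($(c.w m.unop).right).symm) } }
  have ht : Limits.IsLimit t :=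
    { lift := fun s => Over.homMk (hcW.lift ((Over.forget _).mapCone s)) (by
        obtain ⟨j⟩ := (inferInstance : Nonempty J)
        refine (congrArg (hcW.lift ((Over.forget _).mapCone s) ≫ ·) (Over.w (t.π.app (Opposite.op j))).symm).trans ?_
        refine (Category.assoc _ _ _).symm.trans ?_
        refine (congrArg (· ≫ ((overSpec a D ⋙ Over.map ι).obj (Opposite.op j)).hom)
          (hcW.fac ((Over.forget _).mapCone s) (Opposite.op j))).trans ?_
        exact Over.w (s.π.app (Opposite.op j)))
      fac := fun s j => Over.OverMorphism.ext (hcW.fac ((Over.forget _).mapCone s) j)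
      uniq := fun s m hm => Over.OverMorphism.ext
        (hcW.uniq ((Over.forget _).mapCone s) m.left fun j => congrArg CommaMorphism.left (hm j)) }
  let x : t.pt ⟶ Over.mk f := Over.homMk (Spec.map g.right ≫ b) (by
    have hw : φ ≫ g.right = c.pt.hom := Under.w g
    change (Spec.map g.right ≫ b) ≫ f = Spec.map c.pt.hom ≫ a ≫ ι
    rw [← hw, Spec.map_comp, Category.assoc, Category.assoc, hsq])
  obtain ⟨j, q, hq⟩ := Limits.Types.jointly_surjective_of_isColimit
    (Limits.isColimitOfPreserves (yoneda.obj (Over.mk f)) ht.op) x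
  have hq' : Spec.map (c.ι.app j.unop.unop).right ≫ q.left = Spec.map g.right ≫ b :=
    congrArg CommaMorphism.left hq
  haveI : ∀ i, CompactSpace (W.obj i) := fun i => inferInstanceAs (CompactSpace (Spec _))
  haveI : ∀ {i k : Jᵒᵖ} (m : i ⟶ k), IsAffineHom (W.map m) := fun {i k} m =>
    haveI : IsAffine (W.obj i) := inferInstanceAs (IsAffine (Spec _))
    haveI : IsAffine (W.obj k) := inferInstanceAs (IsAffine (Spec _))
    inferInstance
  obtain ⟨k, m, hk⟩ := exists_map_eq_top W cW hcW (i := j.unop) (q.left ⁻¹ᵁ b.opensRange) (by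
    refine top_le_iff.1 fun y _ => ?_
    change (Spec.map (c.ι.app j.unop.unop).right ≫ q.left) y ∈ Set.range b
    rw [hq']
    exact ⟨Spec.map g.right y, rfl⟩)
  have hsub : Set.range (Spec.map (D.map m.unop).right ≫ q.left) ⊆ Set.range b := by
    rintro _ ⟨y, rfl⟩
    exact hk.symm.le (Set.mem_univ y)
  let r : Spec (D.obj k.unop).right ⟶ Spec B := IsOpenImmersion.lift b _ hsub
  have hr : r ≫ b = Spec.map (D.map m.unop).right ≫ q.left := IsOpenImmersion.lift_fac _ _ hsub
  have hψ : φ ≫ Spec.preimage r = (D.obj k.unop).hom := by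
    refine Spec.map_injective ((cancel_mono (a ≫ ι)).1 ?_)
    rw [Spec.map_comp, Spec.map_preimage, Category.assoc, hsq, ← Category.assoc, hr, Category.assoc]
    have hw : q.left ≫ f = (Spec.map (D.obj j.unop.unop).hom ≫ a) ≫ ι := Over.w q
    erw [hw]
    rw [Category.assoc, ← Category.assoc, ← Spec.map_comp, Under.w (D.map m.unop)]
  refine ⟨k.unop, Under.homMk (Spec.preimage r) hψ, Under.UnderMorphism.ext ?_⟩
  change Spec.preimage r ≫ (c.ι.app k.unop).right = g.right
  refine Spec.map_injective ((cancel_mono b).1 ?_)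
  rw [Spec.map_comp, Spec.map_preimage, Category.assoc, hr, ← Category.assoc, ← Spec.map_comp, ← hq']
  exact congrArg (fun z => Spec.map z ≫ q.left) congr($(c.w m.unop).right)

end Groth.Agent.LimFP
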